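import Cfsg.Agent.Lib.Helper88.GTMain
import Cfsg.Agent.S3082

set_option autoImplicit false
set_option linter.unusedSectionVars false
set_option linter.style.haveILetI false

/-!
# The Glauberman-Thompson criterion for fusion systems, relative to a strongly closed subgroup
-/

namespace Cfsg.Agent.Lib.Helper11.FusGT

open Cfsg Cfsg.FusionSystem Cfsg.Agent.Lib.Helper88
open Cfsg.Agent.Lib.Helper87 (hom_le hom_mem_S subtype_mem inv_exists mem_autGroup_iff finite_of_le)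
open Cfsg.Agent.S5132 (mem_pre pre_le)

universe u

variable {Ω : Type u} [Group Ω] {S : Subgroup Ω}

/-- conjugation by an element of a realizing group, on a cyclic subgroup, is a map of the system -/
theorem exists_hom_of_conj {G : Type*} [Group G] (F : FusionSystem S) (ι : S →* G)
    (hreal : F.IsRealizedBy ι) (x₀ : S) (g : G) (hg : g * ι x₀ * g⁻¹ ∈ ι.range) :
    ∃ (φ : ↥(Subgroup.zpowers (x₀ : Ω)) →* Ω), φ ∈ F.Hom (Subgroup.zpowers (x₀ : Ω)) ∧
      ∃ h : φ ⟨x₀, Subgroup.mem_zpowers _⟩ ∈ S,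
        ι ⟨φ ⟨x₀, Subgroup.mem_zpowers _⟩, h⟩ = g * ι x₀ * g⁻¹ := by
  have hinj : Function.Injective ι := hreal.1
  obtain ⟨P, hPdef⟩ : ∃ P : Subgroup Ω, P = Subgroup.zpowers (x₀ : Ω) := ⟨_, rfl⟩
  have hP : P ≤ S := by
    rw [hPdef, Subgroup.zpowers_le]
    exact x₀.2
  obtain ⟨f, hf⟩ : ∃ f : P →* G,
      f = (MulAut.conj g).toMonoidHom.comp (ι.comp (Subgroup.inclusion hP)) := ⟨_, rfl⟩
  have hfy : ∀ y : P, f y = g * ι ⟨y, hP y.2⟩ * g⁻¹ := by
    intro y
    rw [hf]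
    rfl
  have hfr : ∀ y : P, f y ∈ ι.range := by
    intro y
    have hy : (y : Ω) ∈ Subgroup.zpowers (x₀ : Ω) := hPdef ▸ y.2
    obtain ⟨k, hk⟩ := Subgroup.mem_zpowers_iff.mp hy
    have h1 : (⟨y, hP y.2⟩ : S) = x₀ ^ k := by
      apply Subtype.ext
      rw [Subgroup.coe_zpow]
      exact hk.symm
    rw [hfy, h1, map_zpow]
    have h2 : g * ι x₀ ^ k * g⁻¹ = (g * ι x₀ * g⁻¹) ^ k := by
      rw [conj_zpow]
    rw [h2]
    exact Subgroup.zpow_mem _ hg k
  obtain ⟨e, he⟩ : ∃ e : S ≃* ι.range, e = MonoidHom.ofInjective hinj := ⟨_, rfl⟩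
  obtain ⟨φ, hφdef⟩ : ∃ φ : P →* Ω,
      φ = S.subtype.comp (e.symm.toMonoidHom.comp (f.codRestrict ι.range hfr)) := ⟨_, rfl⟩
  have hφS : ∀ y : P, φ y ∈ S := by
    intro y
    rw [hφdef]
    exact (e.symm ⟨f y, hfr y⟩).2
  have hφι : ∀ y : P, ι ⟨φ y, hφS y⟩ = f y := by
    intro y
    have h1 : (⟨φ y, hφS y⟩ : S) = e.symm ⟨f y, hfr y⟩ := by
      apply Subtype.ext
      show φ y = ((e.symm ⟨f y, hfr y⟩ : S) : Ω)
      rw [hφdef]
      rfl
    rw [h1, he]
    exact MonoidHom.apply_ofInjective_symm hinj ⟨f y, hfr y⟩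
  have hmem : φ ∈ F.Hom P := by
    rw [hreal.2 P hP φ hφS]
    exact ⟨g, fun y => by rw [hφι, hfy]⟩
  subst hPdef
  refine ⟨φ, hmem, hφS _, ?_⟩
  rw [hφι, hfy]

/-- the hypothesis: automorphisms of order prime to `p` normalizing `Z(J(D))` are trivial -/
def HypD (F : FusionSystem S) (p : ℕ) (D : Subgroup Ω) : Prop :=
  ∀ P : Subgroup Ω, P ≤ S → ∀ α ∈ F.autGroup P, (orderOf α).Coprime p →
    centerThompsonAOf D ≤ P →
    (∀ x : P, (x : Ω) ∈ centerThompsonAOf D → ((α x : P) : Ω) ∈ centerThompsonAOf D) → α = 1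

theorem centerThompsonAOf_subgroupOf {D : Subgroup Ω} (hDS : D ≤ S) :
    centerThompsonAOf (D.subgroupOf S) = (centerThompsonAOf D).subgroupOf S := by
  have h_b := centerThompsonAOf_map S.subtype (Subgroup.subtype_injective S) (D.subgroupOf S)
  rw [Subgroup.subgroupOf_map_subtype, inf_eq_left.mpr hDS] at h_b
  rw [← h_b]
  unfold Subgroup.subgroupOf
  rw [Subgroup.comap_map_eq_self_of_injective (Subgroup.subtype_injective S)]

/-- **The criterion for constrained systems.** -/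
theorem pFree_of_constrained_closed (p : ℕ) [Fact p.Prime] (hp2 : p ≠ 2) (F : FusionSystem S)
    (hfin : Finite S) (hS : IsPGroup p S) (hcon : F.IsConstrained p) (D : Subgroup Ω)
    (hD : F.StronglyClosed D) (hyp : HypD F p D) : PFree F p := by
  obtain ⟨G, _, ι, hfinG, hreal, ⟨T, hT⟩, -⟩ := exists_model hS F hcon
  have hinj : Function.Injective ι := hreal.1
  have hDS : D ≤ S := hD.1
  obtain ⟨D', hD'⟩ : ∃ D' : Subgroup G, D' = (D.subgroupOf S).map ι := ⟨_, rfl⟩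
  have hD'T : D' ≤ (T : Subgroup G) := by
    rw [hD', hT]
    rintro _ ⟨s, -, rfl⟩
    exact ⟨s, rfl⟩
  have hsc : IsStronglyClosed D' (T : Subgroup G) := by
    refine ⟨hD'T, ?_⟩
    intro x hx g hgx
    rw [hD'] at hx
    obtain ⟨x₀, hx₀, rfl⟩ := hx
    rw [hT] at hgx
    obtain ⟨φ, hφ, hφS, hφι⟩ := exists_hom_of_conj F ι hreal x₀ g hgx
    have hx₀D : (x₀ : Ω) ∈ D := Subgroup.mem_subgroupOf.mp hx₀
    have hle : Subgroup.zpowers (x₀ : Ω) ≤ D := by
      rw [Subgroup.zpowers_le]; exact hx₀D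
    have h1 := hD.2 _ hle φ hφ ⟨x₀, Subgroup.mem_zpowers _⟩
    rw [hD', ← hφι]
    exact ⟨⟨_, hφS⟩, Subgroup.mem_subgroupOf.mpr h1, rfl⟩
  obtain ⟨Z, hZdef⟩ : ∃ Z : Subgroup G, Z = centerThompsonAOf D' := ⟨_, rfl⟩
  have hZ : Z = ((centerThompsonAOf D).subgroupOf S).map ι := by
    rw [hZdef, hD', ← centerThompsonAOf_map ι hinj (D.subgroupOf S),
      centerThompsonAOf_subgroupOf hDS]
  have hZT : Z ≤ (T : Subgroup G) := by
    rw [hZdef]; exact (centerThompsonAOf_le D').trans hD'T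
  obtain ⟨H, hHdef⟩ : ∃ H : Subgroup G, H = Subgroup.normalizer (Z : Set G) := ⟨_, rfl⟩
  have hTND : (T : Subgroup G) ≤ Subgroup.normalizer (D' : Set G) := by
    have key : ∀ t ∈ (T : Subgroup G), ∀ d ∈ D', t * d * t⁻¹ ∈ D' := by
      intro t ht d hd
      apply hsc.2 d hd t
      exact (T : Subgroup G).mul_mem ((T : Subgroup G).mul_mem ht (hD'T hd))
        ((T : Subgroup G).inv_mem ht)
    intro t ht
    rw [Subgroup.mem_normalizer_iff]
    intro d
    constructor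
    · exact key t ht d
    · intro hd
      have h1 := key t⁻¹ ((T : Subgroup G).inv_mem ht) _ hd
      have e : t⁻¹ * (t * d * t⁻¹) * t⁻¹⁻¹ = d := by group
      rwa [e] at h1
  have hTH : (T : Subgroup G) ≤ H := by
    rw [hHdef, hZdef]
    exact hTND.trans (normalizer_le_normalizer_centerThompsonAOf D')
  let TH : Sylow p H := T.subtype hTH
  have hTHcoe : (TH : Subgroup H) = (T : Subgroup G).subgroupOf H := Sylow.coe_subtype _ _
  have hnpcH : HasNormalPComplement p H := by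
    rw [Cfsg.Agent.Lib.Helper2.hasNormalPComplement_iff TH, Cfsg.Agent.S0071.result TH]
    intro Q₁ hQ₁ g hg hcop
    have hQ₁T : ∀ q ∈ Q₁, ((q : H) : G) ∈ (T : Subgroup G) := by
      intro q hq
      have := hQ₁ hq
      rw [hTHcoe] at this
      exact Subgroup.mem_subgroupOf.mp this
    obtain ⟨Q₂, hQ₂def⟩ : ∃ Q₂ : Subgroup G, Q₂ = Q₁.map H.subtype ⊔ Z := ⟨_, rfl⟩
    have hQ₂ : Q₂ ≤ ι.range := by
      rw [← hT, hQ₂def]
      apply sup_le
      · rintro _ ⟨q, hq, rfl⟩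
        exact hQ₁T q hq
      · exact hZT
    have hgH : (g : G) ∈ Subgroup.normalizer (Z : Set G) := by
      have hle : H ≤ Subgroup.normalizer (Z : Set G) := hHdef.le
      exact hle g.2
    have hgN1 : (g : G) ∈ Subgroup.normalizer ((Q₁.map H.subtype : Subgroup G) : Set G) := by
      rw [Subgroup.mem_normalizer_iff]
      intro y
      rw [Subgroup.mem_normalizer_iff] at hg
      constructor
      · rintro ⟨q, hq, rfl⟩
        exact ⟨g * q * g⁻¹, (hg q).mp hq, rfl⟩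
      · rintro ⟨q, hq, hqy⟩
        have hy : y ∈ H := by
          have h1 : (g : G)⁻¹ * ((g : G) * y * (g : G)⁻¹) * (g : G) ∈ H :=
            H.mul_mem (H.mul_mem (H.inv_mem g.2) (hqy ▸ q.2)) g.2
          have e : (g : G)⁻¹ * ((g : G) * y * (g : G)⁻¹) * (g : G) = y := by group
          rwa [e] at h1
        refine ⟨⟨y, hy⟩, (hg ⟨y, hy⟩).mpr ?_, rfl⟩
        have : g * ⟨y, hy⟩ * g⁻¹ = q := Subtype.ext hqy.symm
        rw [this]
        exact hq
    have hgN : (g : G) ∈ Subgroup.normalizer (Q₂ : Set G) := by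
      rw [hQ₂def]
      exact mem_normalizer_sup' hgN1 hgH
    obtain ⟨γ, hγ, hγg⟩ := exists_aut_of_mem_normalizer F ι hreal Q₂ hQ₂ (g : G) hgN
    have hγcop : (orderOf γ).Coprime p := by
      have h1 := hγg.orderOf_dvd hinj
      rw [Subgroup.orderOf_coe] at h1
      exact Nat.Coprime.coprime_dvd_left h1 hcop
    have hPS : preimageAlong ι Q₂ ≤ S := pre_le ι Q₂
    have hb1 : centerThompsonAOf D ≤ preimageAlong ι Q₂ := by
      intro x hx
      have hxS : x ∈ S := hDS (centerThompsonAOf_le D hx)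
      refine mem_pre.mpr ⟨hxS, ?_⟩
      rw [hQ₂def]
      apply (le_sup_right : Z ≤ Q₁.map H.subtype ⊔ Z)
      rw [hZ]
      exact ⟨⟨x, hxS⟩, Subgroup.mem_subgroupOf.mpr hx, rfl⟩
    have hb2 : ∀ x : ↥(preimageAlong ι Q₂), (x : Ω) ∈ centerThompsonAOf D →
        ((γ x : ↥(preimageAlong ι Q₂)) : Ω) ∈ centerThompsonAOf D := by
      intro x hx
      have h1 := hγg x
      have h2 : ι ⟨x, hPS x.2⟩ ∈ Z := by
        rw [hZ]
        exact ⟨⟨x, hPS x.2⟩, Subgroup.mem_subgroupOf.mpr hx, rfl⟩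
      have h3 : (g : G) * ι ⟨x, hPS x.2⟩ * (g : G)⁻¹ ∈ Z :=
        (Subgroup.mem_normalizer_iff.mp hgH _).mp h2
      rw [← h1, hZ] at h3
      obtain ⟨z, hz, hzx⟩ := h3
      have h4 := hinj hzx
      have h5 : (z : Ω) ∈ centerThompsonAOf D := Subgroup.mem_subgroupOf.mp hz
      rw [h4] at h5
      exact h5
    have hγ1 : γ = 1 := hyp _ hPS γ hγ hγcop hb1 hb2
    rw [Subgroup.mem_centralizer_iff]
    intro q hq
    apply Subtype.ext
    show (q : G) * (g : G) = (g : G) * (q : G)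
    have hqQ₂ : (q : G) ∈ Q₂ := by
      rw [hQ₂def]
      exact (le_sup_left : Q₁.map H.subtype ≤ Q₁.map H.subtype ⊔ Z) ⟨q, hq, rfl⟩
    obtain ⟨s, hs⟩ := hQ₂ hqQ₂
    have hsP : (s : Ω) ∈ preimageAlong ι Q₂ := mem_pre.mpr ⟨s.2, by rw [hs]; exact hqQ₂⟩
    have h1 := hγg ⟨s, hsP⟩
    rw [hγ1] at h1
    have h2 : ι s = (g : G) * ι s * (g : G)⁻¹ := h1
    rw [hs] at h2
    calc (q : G) * (g : G) = ((g : G) * (q : G) * (g : G)⁻¹) * (g : G) := by rw [← h2]
      _ = (g : G) * (q : G) := by group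
  have hnpcH' : HasNormalPComplement p
      ↥(Subgroup.normalizer ((centerThompsonAOf D' : Subgroup G) : Set G)) := by
    rw [← hZdef, ← hHdef]
    exact hnpcH
  have hnpcG : HasNormalPComplement p G := Cfsg.Agent.S3082.result hp2 T D' hsc (Or.inl hnpcH')
  rw [Cfsg.Agent.Lib.Helper2.hasNormalPComplement_iff T, Cfsg.Agent.S0071.result T] at hnpcG
  exact pFree_of_realized F ι hreal (fun Q₁ hQ₁ => hnpcG Q₁ (hT ▸ hQ₁))

end Cfsg.Agent.Lib.Helper11.FusGT
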